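import Cfsg.Agent.H98.SubfieldOrth.Basic
import Cfsg.Agent.H98.OrthMax.Roots

/-!
A quadratic form with a compatible quadratic field: lines over the field, orthogonality over the field, frames.
-/

set_option autoImplicit false

namespace Cfsg.Agent.H98.HermOrth

open QuadraticMap Module Cfsg.Agent.Orthogonal
open Cfsg.Agent.H98.SubfieldOrth

variable {F V : Type*} [Field F] [AddCommGroup V] [Module F V]

/-- An endomorphism generating a quadratic field whose conjugation is the adjoint of the polar form. -/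
structure HStr (Q : QuadraticForm F V) (J : V →ₗ[F] V) (α β : F) : Prop where
  sq : ∀ x, J (J x) = α • J x + β • x
  irr : ∀ c : F, c * c ≠ α * c + β
  adj : ∀ x y, polar Q (J x) y = α * polar Q x y - polar Q x (J y)
  sing : ∀ u, Q u = 0 → Q (J u) = 0 ∧ polar Q u (J u) = 0

variable {Q : QuadraticForm F V} {J : V →ₗ[F] V} {α β : F}

/-- Orthogonality over the quadratic field. -/
def HO (Q : QuadraticForm F V) (J : V →ₗ[F] V) (x y : V) : Prop :=
  polar Q x y = 0 ∧ polar Q x (J y) = 0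

/-- The line over the quadratic field. -/
def ln (J : V →ₗ[F] V) (u : V) : Submodule F V := Submodule.span F {u, J u}

theorem mem_ln {u v : V} : v ∈ ln J u ↔ ∃ a b : F, a • u + b • J u = v := Submodule.mem_span_pair

theorem self_mem_ln (u : V) : u ∈ ln J u := Submodule.subset_span (Set.mem_insert _ _)

theorem J_mem_ln (u : V) : J u ∈ ln J u := Submodule.subset_span (Set.mem_insert_of_mem _ rfl)

namespace HStr

variable (h : HStr Q J α β)
include h

theorem pol_JJ (x y : V) : polar Q (J x) (J y) = -β * polar Q x y := by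
  rw [h.adj, h.sq, polar_add_right, polar_smul_right', polar_smul_right']; ring

theorem pol_J_right (x y : V) : polar Q x (J (J y)) = α * polar Q x (J y) + β * polar Q x y := by
  rw [h.sq, polar_add_right, polar_smul_right', polar_smul_right']

theorem ho_symm {x y : V} (hxy : HO Q J x y) : HO Q J y x :=
  ⟨by rw [polar_comm]; exact hxy.1, by rw [polar_comm, h.adj, hxy.1, hxy.2]; ring⟩

theorem ho_J {x y : V} (hxy : HO Q J x y) : HO Q J x (J y) :=
  ⟨hxy.2, by rw [h.pol_J_right, hxy.1, hxy.2]; ring⟩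

theorem ho_ln {x y z : V} (hxy : HO Q J x y) (hz : z ∈ ln J y) : HO Q J x z := by
  obtain ⟨a, b, rfl⟩ := mem_ln.1 hz
  have h2 := h.ho_J hxy
  exact ⟨by rw [polar_add_right, polar_smul_right', polar_smul_right', hxy.1, hxy.2]; ring,
    by rw [map_add, map_smul, map_smul, polar_add_right, polar_smul_right', polar_smul_right', hxy.2, h2.2]; ring⟩

theorem ho_self {u : V} (hu : Q u = 0) : HO Q J u u :=
  ⟨by rw [polar_self', hu, mul_zero], (h.sing u hu).2⟩

theorem det_ne {s t : F} (hst : s ≠ 0 ∨ t ≠ 0) : t * t - α * (s * t) - β * (s * s) ≠ 0 := by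
  intro e
  rcases eq_or_ne s 0 with rfl | hs
  · rcases hst with hst | hst
    · exact hst rfl
    · exact hst (mul_self_eq_zero.1 (by linear_combination e))
  · refine h.irr (t / s) ?_
    field_simp
    linear_combination e

theorem q_ln {u z : V} (hu : Q u = 0) (hz : z ∈ ln J u) : Q z = 0 := by
  obtain ⟨a, b, rfl⟩ := mem_ln.1 hz
  rw [map_add_polar, qmap_smul, qmap_smul, polar_smul_left', polar_smul_right', hu, (h.sing u hu).1, (h.sing u hu).2]
  ring

theorem ln_J {u z : V} (hz : z ∈ ln J u) : J z ∈ ln J u := by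
  obtain ⟨a, b, rfl⟩ := mem_ln.1 hz
  exact mem_ln.2 ⟨b * β, a + b * α, by rw [map_add, map_smul, map_smul, h.sq]; module⟩

theorem ln_symm {u z : V} (hz : z ∈ ln J u) (hz0 : z ≠ 0) : u ∈ ln J z := by
  obtain ⟨a, b, rfl⟩ := mem_ln.1 hz
  have hab : b ≠ 0 ∨ -a ≠ 0 := by
    by_contra hc
    push Not at hc
    exact hz0 (by rw [hc.1, neg_eq_zero.1 hc.2]; simp)
  have hD := h.det_ne hab
  set D := -a * -a - α * (b * -a) - β * (b * b) with hDd
  refine mem_ln.2 ⟨(a + b * α) / D, -b / D, ?_⟩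
  rw [map_add, map_smul, map_smul, h.sq]
  match_scalars
  · field_simp
    rw [hDd]; ring
  · field_simp
    ring

/-- A line and a line not orthogonal to it span a nondegenerate space. -/
theorem coeff_zero {u x : V} (hu : Q u = 0) (hux : ¬HO Q J u x) {a b c e : F}
    (h1 : polar Q u (a • u + b • J u + (c • x + e • J x)) = 0)
    (h2 : polar Q (J u) (a • u + b • J u + (c • x + e • J x)) = 0) : c = 0 ∧ e = 0 := by
  set s := polar Q u x with hs
  set t := polar Q u (J x) with ht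
  have hst : s ≠ 0 ∨ t ≠ 0 := by
    by_contra hc
    push Not at hc
    exact hux hc
  have hD := h.det_ne hst
  simp only [polar_add_right, polar_smul_right', map_add, map_smul, h.pol_J_right, h.adj, (h.sing u hu).2,
    (h.ho_self hu).1, ← hs, ← ht] at h1 h2
  refine ⟨mul_right_cancel₀ hD ?_, mul_right_cancel₀ hD ?_⟩
  · rw [zero_mul]; linear_combination (-β * s) * h1 + (-t) * h2
  · rw [zero_mul]; linear_combination (-(α * s - t)) * h1 + s * h2

theorem exists_quad [FiniteDimensional F V] {u x : V} (hu : Q u = 0) (hx : Q x = 0)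
    (hux : ¬HO Q J u x) :
    Nondeg (F := F) (V := (ln J u ⊔ ln J x : Submodule F V)) (restr Q (ln J u ⊔ ln J x)) ∧
      finrank F (ln J u ⊔ ln J x : Submodule F V) ≤ 4 ∧
      ∀ z ∈ perp Q (ln J u ⊔ ln J x), HO Q J u z ∧ HO Q J x z := by
  refine ⟨?_, ?_, fun z hz => ?_⟩
  · rw [nondeg_restr_iff]
    refine eq_bot_iff.2 fun z hz => ?_
    obtain ⟨hzU, hzp⟩ := hz
    obtain ⟨p, hp, r, hr, rfl⟩ := Submodule.mem_sup.1 hzU
    obtain ⟨a, b, rfl⟩ := mem_ln.1 hp
    obtain ⟨c, e, rfl⟩ := mem_ln.1 hr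
    obtain ⟨rfl, rfl⟩ := h.coeff_zero hu hux (hzp u (Submodule.mem_sup_left (self_mem_ln u)))
      (hzp (J u) (Submodule.mem_sup_left (J_mem_ln u)))
    have h3 := hzp x (Submodule.mem_sup_right (self_mem_ln x))
    have h4 := hzp (J x) (Submodule.mem_sup_right (J_mem_ln x))
    rw [add_comm] at h3 h4
    obtain ⟨rfl, rfl⟩ := h.coeff_zero hx (fun e => hux (h.ho_symm e)) h3 h4
    simp
  · refine (Submodule.finrank_add_le_finrank_add_finrank _ _).trans ?_
    have hle : ∀ w : V, finrank F (ln J w) ≤ 2 := fun w => by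
      classical
      refine (finrank_span_le_card ({w, J w} : Set V)).trans ?_
      rw [Set.toFinset_insert, Set.toFinset_singleton]
      exact Finset.card_le_two
    have := hle u
    have := hle x
    omega
  · have key : ∀ w, w ∈ ln J u ⊔ ln J x → J w ∈ ln J u ⊔ ln J x → HO Q J w z := fun w hw hJw =>
      ⟨hz w hw, by have := hz _ hJw; rw [h.adj, hz w hw] at this; linear_combination -this⟩
    exact ⟨key u (Submodule.mem_sup_left (self_mem_ln u)) (Submodule.mem_sup_left (J_mem_ln u)),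
      key x (Submodule.mem_sup_right (self_mem_ln x)) (Submodule.mem_sup_right (J_mem_ln x))⟩

theorem perp_J {U : Submodule F V} (hU : ∀ w ∈ U, J w ∈ U) : ∀ z ∈ perp Q U, J z ∈ perp Q U :=
  fun z hz w hw => by
    have := hz _ (hU w hw)
    rw [h.adj, hz w hw] at this
    linear_combination -this

theorem quad_J {u x : V} : ∀ w ∈ ln J u ⊔ ln J x, J w ∈ ln J u ⊔ ln J x := fun w hw => by
  obtain ⟨p, hp, r, hr, rfl⟩ := Submodule.mem_sup.1 hw
  rw [map_add]
  exact add_mem (Submodule.mem_sup_left (h.ln_J hp)) (Submodule.mem_sup_right (h.ln_J hr))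

/-- The nondegenerate rest of a space over the field after removing two nonorthogonal lines. -/
theorem exists_rest [FiniteDimensional F V] (hQ : Nondeg Q) {C : Submodule F V}
    (hC : Nondeg (F := F) (V := C) (restr Q C)) (hJ : ∀ w ∈ C, J w ∈ C) {u x : V} (huC : u ∈ C) (hxC : x ∈ C)
    (hu : Q u = 0) (hx : Q x = 0) (hux : ¬HO Q J u x) :
    ∃ C' ≤ C, Nondeg (F := F) (V := C') (restr Q C') ∧ (∀ w ∈ C', J w ∈ C') ∧
      finrank F C ≤ finrank F C' + 4 ∧ (∀ z ∈ C', HO Q J u z ∧ HO Q J x z) ∧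
      ∀ y ∈ C, HO Q J u y → ∃ p ∈ ln J u, y - p ∈ C' := by
  obtain ⟨hU, hd, hperp⟩ := h.exists_quad hu hx hux
  have hle : ln J u ⊔ ln J x ≤ C := by
    refine sup_le ?_ ?_ <;> rw [ln, Submodule.span_le] <;> rintro a (rfl | rfl)
    exacts [huC, hJ u huC, hxC, hJ x hxC]
  obtain ⟨h1, -, h2⟩ := hQ.nondeg_inf_perp hC hU hle
  refine ⟨C ⊓ perp Q (ln J u ⊔ ln J x), inf_le_left, h1, fun w hw => ⟨hJ w hw.1, h.perp_J h.quad_J w hw.2⟩,
    by omega, fun z hz => hperp z hz.2, fun y hy huy => ?_⟩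
  have hsup := (hQ.isCompl_perp hU).sup_eq_top
  obtain ⟨q, hq, r, hr, rfl⟩ := Submodule.mem_sup.1 (hsup ▸ Submodule.mem_top : y ∈ _ ⊔ _)
  obtain ⟨p, hp, p', hp', rfl⟩ := Submodule.mem_sup.1 hq
  obtain ⟨a, b, rfl⟩ := mem_ln.1 hp
  obtain ⟨c, e, rfl⟩ := mem_ln.1 hp'
  have e1 := (hperp r hr).1
  have e2 : polar Q u (a • u + b • J u + (c • x + e • J x)) = 0 := by
    have := huy.1
    rwa [polar_add_right, e1.1, add_zero] at this
  have e3 : polar Q (J u) (a • u + b • J u + (c • x + e • J x)) = 0 := by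
    have := (h.ho_symm (h.ho_J (h.ho_symm huy))).1
    rwa [polar_add_right, hr _ (Submodule.mem_sup_left (J_mem_ln u)), add_zero] at this
  obtain ⟨rfl, rfl⟩ := h.coeff_zero hu hux e2 e3
  refine ⟨_, hp, ⟨C.sub_mem hy (hle (Submodule.mem_sup_left hp)), ?_⟩⟩
  simpa using hr

omit h in
theorem exists_partner {C : Submodule F V} (hC : Nondeg (F := F) (V := C) (restr Q C)) {u : V} (huC : u ∈ C)
    (hu : Q u = 0) (hu0 : u ≠ 0) : ∃ z ∈ C, Q z = 0 ∧ polar Q u z = 1 ∧ ¬HO Q J u z := by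
  obtain ⟨z, hz, huz⟩ := hC.exists_partner (u := ⟨u, huC⟩) (fun e => hu0 (congrArg Subtype.val e))
    (by rw [restr_apply]; exact hu)
  rw [polar_restr] at huz
  rw [restr_apply] at hz
  exact ⟨z, z.2, hz, huz, fun e => one_ne_zero (huz.symm.trans e.1)⟩

/-- Two lines are joined by a line orthogonal to both, or are orthogonal and distinct. -/
theorem relay [Finite F] [FiniteDimensional F V] (hQ : Nondeg Q) {C : Submodule F V}
    (hC : Nondeg (F := F) (V := C) (restr Q C)) (hJ : ∀ w ∈ C, J w ∈ C) (hd : 7 ≤ finrank F C) {y w : V}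
    (hyC : y ∈ C) (hwC : w ∈ C) (hy : Q y = 0) (hw : Q w = 0) (hy0 : y ≠ 0) (hw0 : w ≠ 0) :
    (HO Q J y w ∧ y ∉ ln J w) ∨
      ∃ t ∈ C, Q t = 0 ∧ t ≠ 0 ∧ HO Q J y t ∧ y ∉ ln J t ∧ HO Q J t w ∧ t ∉ ln J w := by
  by_cases hyw : HO Q J y w ∧ y ∉ ln J w
  · exact Or.inl hyw
  refine Or.inr ?_
  have key : ∀ z ∈ C, Q z = 0 → ¬HO Q J y z → ((y ∈ ln J w) ∨ z = w) →
      ∃ t ∈ C, Q t = 0 ∧ t ≠ 0 ∧ HO Q J y t ∧ y ∉ ln J t ∧ HO Q J t w ∧ t ∉ ln J w := by
    intro z hzC hz hyz hcase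
    obtain ⟨C', hC'C, hC', -, hd', hC'p, -⟩ := h.exists_rest hQ hC hJ hyC hzC hy hz hyz
    obtain ⟨⟨t, htC⟩, ht0, ht⟩ := hC'.exists_singular (by omega)
    rw [restr_apply] at ht
    replace ht0 : t ≠ 0 := fun e => ht0 (Subtype.ext e)
    obtain ⟨hyt, hzt⟩ := hC'p t htC
    have hnot : y ∉ ln J t := fun e => hyz (h.ho_symm (h.ho_ln hzt e))
    refine ⟨t, hC'C htC, ht, ht0, hyt, hnot, ?_, ?_⟩
    · rcases hcase with hc | rfl
      · exact h.ho_ln (h.ho_symm hyt) (h.ln_symm hc hy0)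
      · exact h.ho_symm hzt
    · intro e
      rcases hcase with hc | rfl
      · have hty : t ∈ ln J y := by
          obtain ⟨a, b, rfl⟩ := mem_ln.1 e
          have h1 := h.ln_symm hc hy0
          exact add_mem (Submodule.smul_mem _ _ h1) (Submodule.smul_mem _ _ (h.ln_J h1))
        exact hnot (h.ln_symm hty ht0)
      · exact hyz (h.ho_ln hyt (h.ln_symm e ht0))
  by_cases hhy : HO Q J y w
  · have hmem : y ∈ ln J w := by
      by_contra hc
      exact hyw ⟨hhy, hc⟩
    obtain ⟨z, hzC, hz, -, hyz⟩ := exists_partner (J := J) hC hyC hy hy0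
    exact key z hzC hz hyz (Or.inl hmem)
  · exact key w hwC hw hhy (Or.inr rfl)

end HStr

end Cfsg.Agent.H98.HermOrth
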