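import Cfsg.Agent.H98.HermOrth.Basic

/-!
One root element whose line is not a line over the field gives every Eichler transformation.
-/

set_option autoImplicit false

namespace Cfsg.Agent.H98.HermOrth

open QuadraticMap Module Cfsg.Agent.Orthogonal
open Cfsg.Agent.H98.SubfieldOrth

variable {F V : Type*} [Field F] [AddCommGroup V] [Module F V]
  {Q : QuadraticForm F V} {J : V →ₗ[F] V} {α β : F} {X : Subgroup (O Q)}

/-- `X` contains the root elements centred at `u` for all lines orthogonal to it over the field. -/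
def Good (J : V →ₗ[F] V) (X : Subgroup (O Q)) (u : V) : Prop :=
  ∀ w, Q w = 0 → HO Q J u w → SIn X u w

namespace HStr

variable (h : HStr Q J α β) (hR : ∀ v, Q v = 0 → ∀ a : F, SIn X v (a • J v))
include h hR

omit h in
theorem sIn_ln {u v : V} (hu : Q u = 0) (hv : v ∈ ln J u) : SIn X u v := by
  obtain ⟨a, b, rfl⟩ := mem_ln.1 hv
  exact ((hR u hu b).add_smul a).congr rfl (add_comm _ _)

/-- Conjugating by a root element of the field. -/
theorem sIn_diff {u y v : V} (huy : SIn X u y) (hv : Q v = 0) (huv : HO Q J u v) (a : F) :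
    SIn X u (a • (polar Q y (J v) • v - polar Q y v • J v)) := by
  obtain ⟨hv', hw, hm⟩ := hR v hv a
  have e : (sie v (a • J v) hv' hw : V ≃ₗ[F] V) u = u :=
    sie_fix' _ _ (by rw [polar_comm]; exact huv.1) (by rw [polar_smul_left', polar_comm, huv.2, mul_zero])
  refine (((huy.conj hm).congr e rfl).sub huy).congr rfl ?_
  rw [sie_app, polar_smul_left', qmap_smul, (h.sing v hv).1, polar_comm (⇑Q) (J v) y, polar_comm (⇑Q) v y]
  module

/-- The key relation. -/
theorem sIn_of_key {u y w d : V} (huy : SIn X u y) (hw : Q w = 0) (hd : Q d = 0) (huw : HO Q J u w)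
    (hud : HO Q J u d) (hwd : HO Q J w d) (hyw : HO Q J y w) (hyd : polar Q y d ≠ 0 ∨ polar Q y (J d) ≠ 0)
    {v : V} (hv : v ∈ ln J w) : SIn X u v := by
  obtain ⟨e₁, e₂, rfl⟩ := mem_ln.1 hv
  have hD := h.det_ne hyd
  set s := polar Q y d with hs
  set t := polar Q y (J d) with ht
  set D := t * t - α * (s * t) - β * (s * s) with hDd
  have key : ∀ d', Q d' = 0 → HO Q J u d' → HO Q J w d' → ∀ a : F,
      SIn X u (a • (polar Q y (J d') • w - polar Q y d' • J w)) := fun d' hd' hud' hwd' a => by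
    have hsum : Q (w + d') = 0 := by rw [map_add_polar, hw, hd', hwd'.1, add_zero, add_zero]
    have hus : HO Q J u (w + d') := ⟨by rw [polar_add_right, huw.1, hud'.1, add_zero],
      by rw [map_add, polar_add_right, huw.2, hud'.2, add_zero]⟩
    refine ((h.sIn_diff hR huy hsum hus a).sub (h.sIn_diff hR huy hd' hud' a)).congr rfl ?_
    rw [map_add, polar_add_right, polar_add_right, hyw.1, hyw.2, zero_add, zero_add]
    module
  have h1 := key d hd hud hwd ((t * e₁ + (α * t + β * s) * e₂) / D)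
  have h2 := key (J d) (h.sing d hd).1 (h.ho_J hud) (h.ho_J hwd) ((-s * e₁ - t * e₂) / D)
  rw [h.pol_J_right, ← hs, ← ht] at h2
  rw [← hs, ← ht] at h1
  refine (h1.add h2).congr rfl ?_
  match_scalars <;> field_simp <;> rw [hDd] <;> ring

variable [Finite F] [FiniteDimensional F V]

/-- A root element to a line orthogonal over the field makes the centre good. -/
theorem good_of (hQ : Nondeg Q) (hn : 11 ≤ finrank F V) {u y : V} (hu : Q u = 0) (hu0 : u ≠ 0) (hy : Q y = 0)
    (huy : HO Q J u y) (hyu : y ∉ ln J u) (hin : SIn X u y) : Good J X u := by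
  obtain ⟨z, -, hz, -, huz⟩ := exists_partner (J := J) (nondeg_restr_top hQ) Submodule.mem_top hu hu0
  obtain ⟨C, -, hC, hJ, hdC, hCp, hCd⟩ :=
    h.exists_rest hQ (nondeg_restr_top hQ) (fun _ _ => Submodule.mem_top) Submodule.mem_top Submodule.mem_top hu hz huz
  rw [finrank_top] at hdC
  have hq : ∀ {v p : V}, Q v = 0 → HO Q J u v → p ∈ ln J u → Q (v - p) = 0 := fun {v p} hv huv hp => by
    rw [qmap_sub, hv, h.q_ln hu hp, (h.ho_ln (h.ho_symm huv) hp).1]; ring
  obtain ⟨p, hp, hpC⟩ := hCd y Submodule.mem_top huy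
  set y₀ := y - p with hy₀
  have hy₀0 : y₀ ≠ 0 := fun e => hyu (sub_eq_zero.1 e ▸ hp)
  have hy₀s : Q y₀ = 0 := hq hy huy hp
  have hin₀ : SIn X u y₀ := hin.sub (sIn_ln hR hu hp)
  have rule : ∀ y₁ ∈ C, Q y₁ = 0 → SIn X u y₁ → ∀ w ∈ C, Q w = 0 → w ≠ 0 → HO Q J y₁ w → y₁ ∉ ln J w →
      SIn X u w := by
    intro y₁ hy₁C hy₁ hin₁ w hwC hw hw0 hyw hnot
    obtain ⟨z', hz'C, hz', -, hwz'⟩ := exists_partner (J := J) hC hwC hw hw0
    obtain ⟨C', hC'C, hC', -, -, hC'p, hC'd⟩ := h.exists_rest hQ hC hJ hwC hz'C hw hz' hwz'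
    obtain ⟨r, hr, hrC⟩ := hC'd y₁ hy₁C (h.ho_symm hyw)
    have hne : y₁ - r ≠ 0 := fun e => hnot (sub_eq_zero.1 e ▸ hr)
    have hQr : Q (y₁ - r) = 0 := by
      rw [qmap_sub, hy₁, h.q_ln hw hr, (h.ho_ln hyw hr).1]; ring
    obtain ⟨d, hdC', hd, hdp, -⟩ := exists_partner (J := J) hC' hrC hQr hne
    have hwd := (hC'p d hdC').1
    rw [polar_sub_left, polar_comm (⇑Q) r d, (h.ho_ln (h.ho_symm hwd) hr).1, sub_zero] at hdp
    exact h.sIn_of_key hR hin₁ hw hd (hCp w hwC).1 (hCp d (hC'C hdC')).1 hwd hyw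
      (Or.inl (by rw [hdp]; exact one_ne_zero)) (self_mem_ln w)
  intro w hw huw
  obtain ⟨r, hr, hrC⟩ := hCd w Submodule.mem_top huw
  suffices hw₀ : SIn X u (w - r) from (hw₀.add (sIn_ln hR hu hr)).congr rfl (sub_add_cancel w r)
  rcases eq_or_ne (w - r) 0 with h0 | h0
  · rw [h0]; exact sIn_zero hu
  have hws : Q (w - r) = 0 := hq hw huw hr
  rcases h.relay hQ hC hJ (by omega) hpC hrC hy₀s hws hy₀0 h0 with ⟨h1, h2⟩ | ⟨t, htC, ht, ht0, h1, h2, h3, h4⟩
  · exact rule _ hpC hy₀s hin₀ _ hrC hws h0 h1 h2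
  · exact rule t htC ht (rule _ hpC hy₀s hin₀ t htC ht ht0 h1 h2) _ hrC hws h0 h3 h4

/-- A root element to a line not contained in a line over the field gives a good centre. -/
theorem good_of_new (hQ : Nondeg Q) (hn : 11 ≤ finrank F V) {p q : V} (hp : Q p = 0) (hp0 : p ≠ 0) (hq : Q q = 0)
    (hpq : polar Q p q = 0) (hqp : q ∉ ln J p) (hin : SIn X p q) : Good J X p := by
  by_cases hho : HO Q J p q
  · exact h.good_of hR hQ hn hp hp0 hq hho hqp hin
  obtain ⟨C, -, hC, -, hdC, hCp, -⟩ :=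
    h.exists_rest hQ (nondeg_restr_top hQ) (fun _ _ => Submodule.mem_top) Submodule.mem_top Submodule.mem_top hp hq hho
  rw [finrank_top] at hdC
  obtain ⟨⟨u, huC⟩, hu0, hu⟩ := hC.exists_singular (by omega)
  rw [restr_apply] at hu
  replace hu0 : u ≠ 0 := fun e => hu0 (Subtype.ext e)
  obtain ⟨hpu, hqu⟩ := hCp u huC
  have hnot : u ∉ ln J p := fun e => hho (h.ho_symm (h.ho_ln hqu (h.ln_symm e hu0)))
  have hne : polar Q q (J p) ≠ 0 := fun e => hho (h.ho_symm ⟨by rw [polar_comm]; exact hpq, e⟩)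
  exact h.good_of hR hQ hn hp hp0 hu hpu hnot
    (h.sIn_of_key hR hin hu hp hpu (h.ho_self hp) (h.ho_symm hpu) hqu (Or.inr hne) (self_mem_ln u))

/-- One good centre makes all singular vectors good. -/
theorem good_all (hQ : Nondeg Q) (hn : 11 ≤ finrank F V) {u : V} (hu : Q u = 0) (hu0 : u ≠ 0) (hg : Good J X u)
    {v : V} (hv : Q v = 0) (hv0 : v ≠ 0) : Good J X v := by
  have move : ∀ u w, Q u = 0 → Q w = 0 → w ≠ 0 → HO Q J u w → u ∉ ln J w → Good J X u → Good J X w := by
    intro u w hu hw hw0 huw hnot hg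
    have h1 : SIn X u ((1 : F) • w) := by rw [one_smul]; exact hg w hw huw
    have h2 := h1.swap hw huw.1
    refine h.good_of hR hQ hn hw hw0 (by rw [qmap_smul, hu, mul_zero]) ?_ ?_ h2
    · exact h.ho_ln (h.ho_symm huw) (Submodule.smul_mem _ _ (self_mem_ln u))
    · intro e
      exact hnot (by simpa using Submodule.smul_mem _ (-1 : F) e)
  rcases h.relay hQ (nondeg_restr_top hQ) (fun _ _ => Submodule.mem_top) (by rw [finrank_top]; omega)
    Submodule.mem_top Submodule.mem_top hu hv hu0 hv0 with ⟨h1, h2⟩ | ⟨t, -, ht, ht0, h1, h2, h3, h4⟩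
  · exact move u v hu hv hv0 h1 h2 hg
  · exact move t v ht hv hv0 h3 h4 (move u t hu ht ht0 h1 h2 hg)

/-- A root element to a line not contained in a line over the field gives every Eichler transformation. -/
theorem sieGroup_le_of_new (hQ : Nondeg Q) (hn : 11 ≤ finrank F V) {p q : V} (hp : Q p = 0) (hp0 : p ≠ 0)
    (hq : Q q = 0) (hpq : polar Q p q = 0) (hqp : q ∉ ln J p) (hin : SIn X p q) : sieGroup Q ≤ X := by
  have hg0 := h.good_of_new hR hQ hn hp hp0 hq hpq hqp hin
  have hgood : ∀ v, Q v = 0 → v ≠ 0 → Good J X v := fun v hv hv0 => h.good_all hR hQ hn hp hp0 hg0 hv hv0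
  have hfull : ∀ u, Q u = 0 → u ≠ 0 → OrthMax.Full X u := by
    intro u hu hu0 w _ hw
    obtain ⟨z, -, hz, huz, -⟩ := exists_partner (J := J) (nondeg_restr_top hQ) Submodule.mem_top hu hu0
    have hdW := hQ.finrank_hyperbolic_perp hu hz huz
    let S : Submodule F V :=
      { carrier := {x | ∀ c : F, SIn X u (c • x)}
        add_mem' := fun {a b} ha hb c => ((ha c).add (hb c)).congr rfl (smul_add c a b).symm
        zero_mem' := fun c => (sIn_zero hu).congr rfl (smul_zero c).symm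
        smul_mem' := fun c x hx c' => (hx (c' * c)).congr rfl (mul_smul c' c x) }
    have hle : perp Q (Submodule.span F {u, z}) ≤ S :=
      le_of_singular (hQ.nondeg_hyperbolic_perp hu hz huz) (by omega) S fun x hxW hx c => by
        have hux : polar Q u x = 0 := ((mem_perp_span_pair Q).1 hxW).1
        by_cases hho : HO Q J u x
        · exact hgood u hu hu0 _ (by rw [qmap_smul, hx, mul_zero])
            (h.ho_ln hho (Submodule.smul_mem _ _ (self_mem_ln x)))
        have hx0 : x ≠ 0 := fun e => hho ⟨hux, by rw [e, map_zero, polar_zero_right]⟩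
        obtain ⟨C, -, hC, -, hdC, hCp, -⟩ := h.exists_rest hQ (nondeg_restr_top hQ) (fun _ _ => Submodule.mem_top)
          Submodule.mem_top Submodule.mem_top hu hx hho
        rw [finrank_top] at hdC
        obtain ⟨x', hx'C, z', hz'C, hx', hz', hxz, -⟩ := exists_hyp hQ hC (by omega)
        have hz'0 : z' ≠ 0 := fun e => one_ne_zero (α := F) (by rw [← hxz, e, polar_zero_right])
        have h1 : SIn X x x' := hgood x hx hx0 x' hx' (hCp x' hx'C).2
        have h2 : SIn X z' x := hgood z' hz' hz'0 x hx (h.ho_symm (hCp z' hz'C).2)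
        have hne : polar Q x (J u) ≠ 0 := fun e => hho (h.ho_symm ⟨by rw [polar_comm]; exact hux, e⟩)
        refine ((hR u hu (c / polar Q x (J u))).step h1 h2 hx hx' hux (hCp x' hx'C).1.1 (hCp z' hz'C).1.1).congr rfl ?_
        rw [polar_smul_right', polar_comm (⇑Q) z' x', hxz, mul_one, div_mul_cancel₀ c hne]
    have hmem : w - polar Q z w • u ∈ perp Q (Submodule.span F {u, z}) := by
      refine (mem_perp_span_pair Q).2 ⟨?_, ?_⟩
      · rw [polar_sub_right, polar_smul_right', polar_self', hu, hw]; ring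
      · rw [polar_sub_right, polar_smul_right', polar_comm (⇑Q) z u, huz]; ring
    have := ((hle hmem 1).add_smul (polar Q z w)).congr rfl (show _ = w by module)
    exact this.2.2
  obtain ⟨z, -, hz, hpz, hpz'⟩ := exists_partner (J := J) (nondeg_restr_top hQ) Submodule.mem_top hp hp0
  have hz0 : z ≠ 0 := fun e => one_ne_zero (α := F) (by rw [← hpz, e, polar_zero_right])
  exact OrthMax.sieGroup_le_of_pair hQ (by omega) (hfull p hp hp0) (hfull z hz hz0) hp hz
    (by rw [hpz]; exact one_ne_zero)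

end HStr

end Cfsg.Agent.H98.HermOrth
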